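import Mathlib

/-!
Extension of sections across a closed subset where there are regular sequences of length two
(no Noetherian hypothesis).
-/

universe u

open CategoryTheory CategoryTheory.Limits AlgebraicGeometry

namespace DepthTwoExtLib

/-- `a, b` is a weakly regular pair, elementwise -/
def RegPair {O : Type u} [CommRing O] (a b : O) : Prop :=
  (∀ x, a * x = 0 → x = 0) ∧ ∀ x y, b * x = a * y → ∃ z, x = a * z

lemma regPair_of_isWeaklyRegular {O : Type u} [CommRing O] {a b : O}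
    (h : RingTheory.Sequence.IsWeaklyRegular O [a, b]) : RegPair a b := by
  rw [RingTheory.Sequence.isWeaklyRegular_cons_iff, RingTheory.Sequence.isWeaklyRegular_cons_iff] at h
  refine ⟨fun x hx => h.1.right_eq_zero_of_smul (by simpa using hx), fun x y hxy => ?_⟩
  have : b • (Submodule.Quotient.mk x : QuotSMulTop a O) = 0 := by
    rw [← Submodule.Quotient.mk_smul, Submodule.Quotient.mk_eq_zero,
      Submodule.mem_smul_pointwise_iff_exists]
    exact ⟨y, Submodule.mem_top, by simpa using hxy.symm⟩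
  have := h.2.1.right_eq_zero_of_smul this
  rw [Submodule.Quotient.mk_eq_zero, Submodule.mem_smul_pointwise_iff_exists] at this
  obtain ⟨z, -, hz⟩ := this
  exact ⟨z, by simpa using hz.symm⟩

lemma RegPair.map {O O' : Type u} [CommRing O] [CommRing O'] (e : O ≃+* O') {a b : O}
    (h : RegPair a b) : RegPair (e a) (e b) := by
  refine ⟨fun x hx => ?_, fun x y hxy => ?_⟩
  · obtain ⟨x, rfl⟩ := e.surjective x
    rw [← map_mul, e.map_eq_zero_iff] at hx
    rw [h.1 x hx, map_zero]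
  · obtain ⟨x, rfl⟩ := e.surjective x
    obtain ⟨y, rfl⟩ := e.surjective y
    rw [← map_mul, ← map_mul, e.injective.eq_iff] at hxy
    obtain ⟨z, rfl⟩ := h.2 x y hxy
    exact ⟨e z, map_mul e a z⟩

lemma RegPair.pow {O : Type u} [CommRing O] {a b : O} (h : RegPair a b) (n : ℕ) :
    RegPair (a ^ n) (b ^ n) := by
  have h1 : ∀ n x, a ^ n * x = 0 → x = 0 := by
    intro n
    induction n with
    | zero => intro x hx; simpa using hx
    | succ n ih => intro x hx; exact ih x (h.1 _ (by linear_combination hx))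
  have h2 : ∀ n x y, b ^ n * x = a * y → ∃ z, x = a * z := by
    intro n
    induction n with
    | zero => intro x y hxy; exact ⟨y, by simpa using hxy⟩
    | succ n ih =>
      intro x y hxy
      obtain ⟨z, hz⟩ := h.2 (b ^ n * x) y (by linear_combination hxy)
      exact ih x z hz
  refine ⟨h1 n, ?_⟩
  suffices ∀ m x y, b ^ n * x = a ^ m * y → ∃ z, x = a ^ m * z from this n
  intro m
  induction m with
  | zero => intro x y _; exact ⟨x, by simp⟩
  | succ m ih =>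
    intro x y hxy
    obtain ⟨x₁, rfl⟩ := h2 n x (a ^ m * y) (by linear_combination hxy)
    obtain ⟨z, rfl⟩ := ih x₁ y (sub_eq_zero.1 (h.1 _ (by linear_combination hxy)))
    exact ⟨z, by ring⟩

variable {R L ι : Type u} [CommRing R] [CommRing L] [Finite ι] (φ : R →+* L) (f : ι → R)

theorem bijective_of_regPair
    (hker : ∀ i r, φ r = 0 → ∃ k : ℕ, f i ^ k * r = 0)
    (hcoker : ∀ i g, ∃ (k : ℕ) (r : R), φ (f i) ^ k * g = φ r)
    (hsep : ∀ h, (∀ i, ∃ k : ℕ, φ (f i) ^ k * h = 0) → h = 0)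
    (hdepth : ∀ (p : Ideal R) [p.IsPrime], (∀ i, f i ∈ p) →
      ∃ a b : Localization.AtPrime p, a ∈ IsLocalRing.maximalIdeal (Localization.AtPrime p) ∧
        b ∈ IsLocalRing.maximalIdeal (Localization.AtPrime p) ∧ RegPair a b) :
    Function.Bijective φ := by
  classical
  cases nonempty_fintype ι
  -- at a minimal prime over an ideal with radical containing all `f i`
  have hmin : ∀ (J : Ideal R), (∀ i, f i ∈ J.radical) → ∀ (p : Ideal R) [p.IsPrime], p ∈ J.minimalPrimes →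
      ∃ A ∈ J, ∃ B ∈ J, RegPair (algebraMap R (Localization.AtPrime p) A) (algebraMap R _ B) := by
    intro J hJ p _ hp
    obtain ⟨a, b, ha, hb, hab⟩ := hdepth p fun i =>
      (hp.isPrime.radical_le_iff.2 hp.le) (hJ i)
    rw [← IsLocalization.AtPrime.map_eq_maximalIdeal p (Localization.AtPrime p), ← IsLocalization.AtPrime.radical_map_of_mem_minimalPrimes (A := Localization.AtPrime p) p J hp] at ha hb
    obtain ⟨n, hn⟩ := ha
    obtain ⟨n', hn'⟩ := hb
    have hn2 : a ^ (n + n') ∈ J.map (algebraMap R (Localization.AtPrime p)) :=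
      by rw [pow_add]; exact Ideal.mul_mem_right _ _ hn
    have hn2' : b ^ (n + n') ∈ J.map (algebraMap R (Localization.AtPrime p)) :=
      by rw [pow_add]; exact Ideal.mul_mem_left _ _ hn'
    obtain ⟨⟨⟨A, hA⟩, u⟩, hu⟩ := (IsLocalization.mem_map_algebraMap_iff p.primeCompl _).1 hn2
    obtain ⟨⟨⟨B, hB⟩, v⟩, hv⟩ := (IsLocalization.mem_map_algebraMap_iff p.primeCompl _).1 hn2'
    refine ⟨A, hA, B, hB, ?_⟩
    obtain ⟨uu, huu⟩ := IsLocalization.map_units (Localization.AtPrime p) u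
    obtain ⟨vv, hvv⟩ := IsLocalization.map_units (Localization.AtPrime p) v
    simp only [← huu, ← hvv] at hu hv
    rw [← hu, ← hv]
    have hp := hab.pow (n + n')
    refine ⟨fun x hx => (Units.mul_right_eq_zero uu).1 (hp.1 _ (by linear_combination hx)), fun x y hxy => ?_⟩
    obtain ⟨z, hz⟩ := hp.2 ((vv : Localization.AtPrime p) * x) ((uu : Localization.AtPrime p) * y)
      (by linear_combination hxy)
    refine ⟨↑uu⁻¹ * ↑vv⁻¹ * z, ?_⟩
    linear_combination (↑vv⁻¹ : Localization.AtPrime p) * hz - x * vv.inv_mul -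
      (a ^ (n + n') * ↑vv⁻¹ * z) * uu.inv_mul
  have hinj : ∀ r, φ r = 0 → r = 0 := by
    intro r hr
    by_contra hne
    let J : Ideal R := LinearMap.ker (LinearMap.toSpanSingleton R R r)
    have hJ : ∀ x, x ∈ J ↔ x * r = 0 := fun x => LinearMap.mem_ker
    obtain ⟨p, hp⟩ := Ideal.nonempty_minimalPrimes (I := J)
      (fun h => hne (by simpa using (hJ 1).1 (h ▸ Submodule.mem_top)))
    have := hp.isPrime
    obtain ⟨A, hA, B, -, hreg⟩ := hmin J (fun i => by
      obtain ⟨k, hk⟩ := hker i r hr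
      exact ⟨k, (hJ _).2 hk⟩) p hp
    have h0 : algebraMap R (Localization.AtPrime p) r = 0 :=
      hreg.1 _ (by rw [← map_mul, (hJ A).1 hA, map_zero])
    obtain ⟨s, hs⟩ := (IsLocalization.map_eq_zero_iff p.primeCompl _ _).1 h0
    exact s.2 (hp.le ((hJ _).2 hs))
  have hinj' : Function.Injective φ := (injective_iff_map_eq_zero _).2 hinj
  refine ⟨hinj', fun g => ?_⟩
  by_contra hne
  let J : Ideal R :=
    { carrier := {x | φ x * g ∈ φ.range}
      zero_mem' := ⟨0, by simp⟩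
      add_mem' := fun {x y} hx hy => by
        show φ (x + y) * g ∈ φ.range
        rw [map_add, add_mul]; exact add_mem hx hy
      smul_mem' := fun c x hx => by
        show φ (c * x) * g ∈ φ.range
        rw [map_mul, mul_assoc]; exact mul_mem ⟨c, rfl⟩ hx }
  have hJ : ∀ x, x ∈ J ↔ φ x * g ∈ φ.range := fun x => Iff.rfl
  obtain ⟨p, hp⟩ := Ideal.nonempty_minimalPrimes (I := J)
    (fun h => hne (by simpa using (hJ 1).1 (h ▸ Submodule.mem_top)))
  have := hp.isPrime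
  obtain ⟨A, hA, B, hB, hreg⟩ := hmin J (fun i => by
    obtain ⟨k, r, hk⟩ := hcoker i g
    exact ⟨k, (hJ _).2 ⟨r, by rw [map_pow, hk]⟩⟩) p hp
  obtain ⟨r₁, hr₁⟩ := hA
  obtain ⟨r₂, hr₂⟩ := hB
  have h12 : B * r₁ = A * r₂ := hinj' (by rw [map_mul, map_mul, hr₁, hr₂]; ring)
  obtain ⟨z, hz⟩ := hreg.2 (algebraMap R _ r₁) (algebraMap R _ r₂) (by rw [← map_mul, ← map_mul, h12])
  obtain ⟨⟨c, u⟩, hc⟩ := IsLocalization.surj p.primeCompl z
  have h3 : algebraMap R (Localization.AtPrime p) (r₁ * u - A * c) = 0 := by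
    rw [map_sub, map_mul, map_mul, hz, mul_assoc, hc, sub_self]
  obtain ⟨w, hw⟩ := (IsLocalization.map_eq_zero_iff p.primeCompl _ _).1 h3
  -- `h` is killed by `A`, hence vanishes near `p`
  set h := φ ((w : R) * u) * g - φ ((w : R) * c) with hh
  have hAh : φ A * h = 0 := by
    have := congrArg φ hw
    simp only [map_mul, map_sub, map_zero] at this
    rw [hh, map_mul, map_mul]
    linear_combination this - φ (w : R) * φ (u : R) * hr₁
  have hloc : ∀ i, ∃ s : R, s ∈ p.primeCompl ∧ ∃ k : ℕ, φ s * (φ (f i) ^ k * h) = 0 := by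
    intro i
    obtain ⟨k, r, hk⟩ := hcoker i h
    have : A * r = 0 := hinj _ (by rw [map_mul, ← hk, mul_left_comm, hAh, mul_zero])
    have h0 : algebraMap R (Localization.AtPrime p) r = 0 := hreg.1 _ (by rw [← map_mul, this, map_zero])
    obtain ⟨s, hs⟩ := (IsLocalization.map_eq_zero_iff p.primeCompl _ _).1 h0
    exact ⟨s, s.2, k, by rw [hk, ← map_mul, hs, map_zero]⟩
  choose s hs k hk using hloc
  have hfin : φ (∏ i, s i) * h = 0 := hsep _ fun i => ⟨k i, by
    rw [← Finset.mul_prod_erase _ _ (Finset.mem_univ i), map_mul]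
    linear_combination φ (∏ j ∈ Finset.univ.erase i, s j) * hk i⟩
  have hmem : (∏ i, s i) * ((w : R) * u) ∈ J := by
    refine (hJ _).2 ⟨(∏ i, s i) * ((w : R) * c), ?_⟩
    rw [hh] at hfin
    simp only [map_mul] at hfin ⊢
    linear_combination -hfin
  exact (mul_mem (prod_mem fun i _ => hs i) (mul_mem w.2 u.2) : _ ∈ p.primeCompl) (hp.le hmem)

variable {X : Scheme.{u}}

theorem bijective_restrict (U : X.Opens) [QuasiCompact U.ι]
    (hZ : ∀ z : X, z ∉ U → ∃ a b : X.presheaf.stalk z, a ∈ IsLocalRing.maximalIdeal (X.presheaf.stalk z) ∧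
      b ∈ IsLocalRing.maximalIdeal (X.presheaf.stalk z) ∧ RingTheory.Sequence.IsWeaklyRegular (X.presheaf.stalk z) [a, b])
    {V : X.Opens} (hV : IsAffineOpen V) :
    Function.Bijective (X.presheaf.map (homOfLE (inf_le_left : V ⊓ U ≤ V)).op) := by
  classical
  -- finitely many basic opens cover `V ⊓ U`
  have hcpt : IsCompact ((V ⊓ U : X.Opens) : Set X) := by
    have h1 : IsCompact (U.ι ⁻¹ᵁ V : Set U) :=
      QuasiCompact.isCompact_preimage (f := U.ι) V V.2 hV.isCompact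
    have h2 := h1.image U.ι.continuous
    convert h2
    ext x
    exact ⟨fun hx => ⟨⟨x, hx.2⟩, hx.1, rfl⟩, by rintro ⟨y, hy, rfl⟩; exact ⟨hy, y.2⟩⟩
  let T : Set Γ(X, V) := {a | X.basicOpen a ≤ U}
  obtain ⟨s, hs⟩ := hcpt.elim_finite_subcover (fun a : T => (X.basicOpen (a : Γ(X, V)) : Set X))
    (fun a => (X.basicOpen _).2) (fun x hx => by
      obtain ⟨a, ha, hxa⟩ := hV.exists_basicOpen_le ⟨x, hx.2⟩ hx.1
      exact Set.mem_iUnion.2 ⟨⟨a, ha⟩, hxa⟩)
  let f : s → Γ(X, V) := fun i => (i.1 : Γ(X, V))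
  let W : X.Opens := V ⊓ U
  let φ : Γ(X, V) →+* Γ(X, W) := (X.presheaf.map (homOfLE (inf_le_left : W ≤ V)).op).hom
  let ρ : ∀ i, Γ(X, W) →+* Γ(X, X.basicOpen (f i)) := fun i =>
    (X.presheaf.map (homOfLE (le_inf (X.basicOpen_le _) i.1.2 : X.basicOpen (f i) ≤ W)).op).hom
  have hρφ : ∀ i r, ρ i (φ r) = algebraMap Γ(X, V) Γ(X, X.basicOpen (f i)) r := fun i r => by
    show (X.presheaf.map _ ≫ X.presheaf.map _) r = X.presheaf.map _ r
    rw [← Functor.map_comp]; rfl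
  have hloc : ∀ a : Γ(X, V), IsLocalization.Away a Γ(X, X.basicOpen a) :=
    fun a => hV.isLocalization_basicOpen a
  have hunit : ∀ i, IsUnit (ρ i (φ (f i))) := fun i => by
    rw [hρφ]; exact IsLocalization.Away.algebraMap_isUnit (f i)
  have hcov : W ≤ ⨆ i, X.basicOpen (f i) := fun x hx => by
    obtain ⟨a, ha, hxa⟩ := Set.mem_iUnion₂.1 (hs hx)
    exact TopologicalSpace.Opens.mem_iSup.2 ⟨⟨a, ha⟩, hxa⟩
  have hsep0 : ∀ h, (∀ i, ρ i h = 0) → h = 0 := fun h hh =>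
    X.sheaf.eq_of_locally_eq' (fun i => X.basicOpen (f i)) W
      (fun i => homOfLE (le_inf (X.basicOpen_le _) i.1.2)) hcov h 0 fun i => by
        show ρ i h = ρ i 0
        rw [hh, map_zero]
  have hsep : ∀ h, (∀ i, ∃ k : ℕ, φ (f i) ^ k * h = 0) → h = 0 := fun h hh => hsep0 h fun i => by
    obtain ⟨k, hk⟩ := hh i
    have := congrArg (ρ i) hk
    rwa [map_mul, map_pow, map_zero, ((hunit i).pow k).mul_right_eq_zero] at this
  -- vanishing on one basic open
  have hkill : ∀ i h, ρ i h = 0 → ∃ k : ℕ, φ (f i) ^ k * h = 0 := by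
    intro i h hh
    have : ∀ j, ∃ k : ℕ, ρ j (φ (f i) ^ k * h) = 0 := by
      intro j
      obtain ⟨⟨r, ⟨_, m, rfl⟩⟩, hr⟩ := IsLocalization.surj (Submonoid.powers (f j)) (ρ j h)
      have hle1 : X.basicOpen (f i * f j) ≤ X.basicOpen (f i) := by
        rw [Scheme.basicOpen_mul]; exact inf_le_left
      have hle2 : X.basicOpen (f i * f j) ≤ X.basicOpen (f j) := by
        rw [Scheme.basicOpen_mul]; exact inf_le_right
      have h0 : algebraMap Γ(X, V) Γ(X, X.basicOpen (f i * f j)) r = 0 := by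
        have e : X.presheaf.map (homOfLE hle2).op (ρ j h) = X.presheaf.map (homOfLE hle1).op (ρ i h) := by
          show (X.presheaf.map _ ≫ X.presheaf.map _) h = (X.presheaf.map _ ≫ X.presheaf.map _) h
          rw [← Functor.map_comp, ← Functor.map_comp]; rfl
        have := congrArg (X.presheaf.map (homOfLE hle2).op).hom hr
        rw [map_mul] at this
        erw [e, hh, map_zero, zero_mul] at this
        rw [show algebraMap Γ(X, V) Γ(X, X.basicOpen (f i * f j)) r =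
          X.presheaf.map (homOfLE hle2).op (algebraMap Γ(X, V) Γ(X, X.basicOpen (f j)) r) from by
            show X.presheaf.map _ r = (X.presheaf.map _ ≫ X.presheaf.map _) r
            rw [← Functor.map_comp]; rfl]
        exact this.symm
      obtain ⟨⟨_, l, rfl⟩, hl⟩ := (IsLocalization.map_eq_zero_iff (Submonoid.powers (f i * f j)) _ _).1 h0
      refine ⟨l, ?_⟩
      have h1 : algebraMap Γ(X, V) Γ(X, X.basicOpen (f j)) (f i ^ l * r) = 0 := by
        refine (IsLocalization.map_eq_zero_iff (Submonoid.powers (f j)) _ _).2 ⟨⟨_, l, rfl⟩, ?_⟩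
        linear_combination hl
      rw [map_mul, ← hr] at h1
      rw [map_mul, map_pow, hρφ, ← map_pow]
      exact (IsLocalization.map_units Γ(X, X.basicOpen (f j))
        (⟨_, m, rfl⟩ : Submonoid.powers (f j))).mul_left_eq_zero.1 (by linear_combination h1)
    choose k hk using this
    refine ⟨Finset.univ.sup k, hsep0 _ fun j => ?_⟩
    obtain ⟨e, he⟩ := Nat.exists_eq_add_of_le (Finset.le_sup (f := k) (Finset.mem_univ j))
    rw [he, pow_add, mul_right_comm, map_mul, hk, zero_mul]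
  have hker : ∀ i r, φ r = 0 → ∃ k : ℕ, f i ^ k * r = 0 := by
    intro i r hr
    have h0 := congrArg (ρ i) hr
    rw [hρφ, map_zero] at h0
    obtain ⟨⟨_, k, rfl⟩, hk⟩ := (IsLocalization.map_eq_zero_iff (Submonoid.powers (f i)) _ _).1 h0
    exact ⟨k, hk⟩
  have hcoker : ∀ i g, ∃ (k : ℕ) (r : Γ(X, V)), φ (f i) ^ k * g = φ r := by
    intro i g
    obtain ⟨⟨r, ⟨_, m, rfl⟩⟩, hr⟩ := IsLocalization.surj (Submonoid.powers (f i)) (ρ i g)
    obtain ⟨k, hk⟩ := hkill i (φ (f i) ^ m * g - φ r) (by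
      rw [map_sub, map_mul, map_pow, hρφ, hρφ, ← hr, map_pow, sub_eq_zero, mul_comm])
    exact ⟨k + m, f i ^ k * r, by rw [map_mul, map_pow]; linear_combination hk⟩
  refine bijective_of_regPair φ f hker hcoker hsep fun p hp hfp => ?_
  let y : PrimeSpectrum Γ(X, V) := ⟨p, hp⟩
  have hyV : hV.fromSpec y ∈ V := by
    have h : hV.fromSpec y ∈ Set.range hV.fromSpec := ⟨y, rfl⟩
    rwa [hV.range_fromSpec] at h
  letI := TopCat.Presheaf.algebra_section_stalk X.presheaf ⟨hV.fromSpec y, hyV⟩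
  haveI : IsLocalization.AtPrime (X.presheaf.stalk (hV.fromSpec y)) p := hV.isLocalization_stalk' y hyV
  have hyU : hV.fromSpec y ∉ U := by
    intro hU
    obtain ⟨a, ha, hxa⟩ := Set.mem_iUnion₂.1 (hs (show hV.fromSpec y ∈ W from ⟨hyV, hU⟩))
    have h1 : y ∈ hV.fromSpec ⁻¹ᵁ X.basicOpen (a : Γ(X, V)) := hxa
    exact ((hV.fromSpec_preimage_basicOpen _).le h1 : y ∈ PrimeSpectrum.basicOpen (a : Γ(X, V)))
      (hfp ⟨a, ha⟩)
  obtain ⟨a, b, ha, hb, hab⟩ := hZ _ hyU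
  let e : X.presheaf.stalk (hV.fromSpec y) ≃+* Localization.AtPrime p :=
    (IsLocalization.algEquiv p.primeCompl (X.presheaf.stalk (hV.fromSpec y)) (Localization.AtPrime p)).toRingEquiv
  have he : ∀ x ∈ IsLocalRing.maximalIdeal (X.presheaf.stalk (hV.fromSpec y)),
      e x ∈ IsLocalRing.maximalIdeal (Localization.AtPrime p) := fun x hx => by
    rw [IsLocalRing.mem_maximalIdeal, mem_nonunits_iff] at hx ⊢
    rwa [MulEquiv.isUnit_map e]
  exact ⟨e a, e b, he a ha, he b hb, (regPair_of_isWeaklyRegular hab).map e⟩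

theorem isIso_homOfLE_appTop (U : X.Opens) [QuasiCompact U.ι]
    (hZ : ∀ z : X, z ∉ U → ∃ a b : X.presheaf.stalk z, a ∈ IsLocalRing.maximalIdeal (X.presheaf.stalk z) ∧
      b ∈ IsLocalRing.maximalIdeal (X.presheaf.stalk z) ∧ RingTheory.Sequence.IsWeaklyRegular (X.presheaf.stalk z) [a, b])
    {V : X.Opens} (hV : IsAffineOpen V) :
    IsIso (X.homOfLE (inf_le_left : V ⊓ U ≤ V)).appTop := by
  haveI : IsIso (X.presheaf.map (homOfLE (inf_le_left : V ⊓ U ≤ V)).op) :=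
    (ConcreteCategory.isIso_iff_bijective _).2 (bijective_restrict U hZ hV)
  rw [Scheme.homOfLE_appTop]
  have hfac : ∀ (A A' B B' : X.Opens) (h : A' ≤ A) (hB : B = A) (hB' : B' = A') (k : B' ⟶ B),
      IsIso (X.presheaf.map (homOfLE h).op) → IsIso (X.presheaf.map k.op) := by
    rintro A A' B B' h rfl rfl k hi
    rwa [Subsingleton.elim k (homOfLE h)]
  exact hfac _ _ _ _ inf_le_left V.ι_image_top (V ⊓ U).ι_image_top _ inferInstance

theorem existsUnique_extend (U : X.Opens) [QuasiCompact U.ι]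
    (hZ : ∀ z : X, z ∉ U → ∃ a b : X.presheaf.stalk z, a ∈ IsLocalRing.maximalIdeal (X.presheaf.stalk z) ∧
      b ∈ IsLocalRing.maximalIdeal (X.presheaf.stalk z) ∧ RingTheory.Sequence.IsWeaklyRegular (X.presheaf.stalk z) [a, b])
    (Y : Scheme.{u}) (f : Y ⟶ X) [IsAffineHom f]
    (t : (U : Scheme.{u}) ⟶ Y) (ht : t ≫ f = U.ι) :
    ∃! s : X ⟶ Y, s ≫ f = 𝟙 X ∧ U.ι ≫ s = t := by
  have lands : ∀ {W : Scheme.{u}} (V : X.Opens) (a : W ⟶ Y) (j : W ⟶ (V : Scheme.{u})),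
      a ≫ f = j ≫ V.ι → Set.range a ⊆ Set.range (f ⁻¹ᵁ V).ι := by
    intro W V a j h
    rintro _ ⟨w, rfl⟩
    rw [Scheme.Opens.range_ι]
    show f (a w) ∈ V
    rw [← Scheme.Hom.comp_apply, h, Scheme.Hom.comp_apply]
    exact (j w).2
  -- uniqueness on affine opens
  have uniq : ∀ (V : X.Opens), IsAffineOpen V → ∀ a b : (V : Scheme.{u}) ⟶ Y,
      a ≫ f = V.ι → b ≫ f = V.ι →
      X.homOfLE (inf_le_left : V ⊓ U ≤ V) ≫ a = X.homOfLE (inf_le_left : V ⊓ U ≤ V) ≫ b → a = b := by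
    intro V hV a b ha hb hab
    haveI := isIso_homOfLE_appTop U hZ hV
    haveI : IsAffine (f ⁻¹ᵁ V : Scheme.{u}) := hV.preimage f
    rw [← IsOpenImmersion.lift_fac (f ⁻¹ᵁ V).ι a (lands V a (𝟙 _) (by simpa using ha)),
      ← IsOpenImmersion.lift_fac (f ⁻¹ᵁ V).ι b (lands V b (𝟙 _) (by simpa using hb))]
    congr 1
    refine ext_of_isAffine ?_
    have h2 : X.homOfLE (inf_le_left : V ⊓ U ≤ V) ≫ IsOpenImmersion.lift (f ⁻¹ᵁ V).ι a (lands V a (𝟙 _) (by simpa using ha)) =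
        X.homOfLE (inf_le_left : V ⊓ U ≤ V) ≫ IsOpenImmersion.lift (f ⁻¹ᵁ V).ι b (lands V b (𝟙 _) (by simpa using hb)) := by
      rw [← cancel_mono (f ⁻¹ᵁ V).ι]
      simpa using hab
    have := congrArg Scheme.Hom.appTop h2
    rw [Scheme.Hom.comp_appTop, Scheme.Hom.comp_appTop] at this
    exact (cancel_mono _).1 this
  have uniq' : ∀ (W : X.Opens) (a b : (W : Scheme.{u}) ⟶ Y), a ≫ f = W.ι → b ≫ f = W.ι →
      X.homOfLE (inf_le_left : W ⊓ U ≤ W) ≫ a = X.homOfLE (inf_le_left : W ⊓ U ≤ W) ≫ b → a = b := by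
    intro W a b ha hb hab
    have hcover : TopologicalSpace.IsOpenCover
        (fun V : {V : X.affineOpens // V.1 ≤ W} => W.ι ⁻¹ᵁ V.1.1) := by
      rw [TopologicalSpace.IsOpenCover]
      refine eq_top_iff.2 fun x _ => ?_
      obtain ⟨V, hV, hxV, hVW⟩ := TopologicalSpace.Opens.isBasis_iff_nbhd.1 X.isBasis_affineOpens x.2
      exact TopologicalSpace.Opens.mem_iSup.2 ⟨⟨⟨V, hV⟩, hVW⟩, hxV⟩
    refine ((W : Scheme.{u}).openCoverOfIsOpenCover _ hcover).hom_ext _ _ fun V => ?_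
    obtain ⟨⟨V, hV⟩, hVW⟩ := V
    have key : X.homOfLE hVW ≫ a = X.homOfLE hVW ≫ b := by
      refine uniq V hV _ _ (by rw [Category.assoc, ha, Scheme.homOfLE_ι])
        (by rw [Category.assoc, hb, Scheme.homOfLE_ι]) ?_
      rw [Scheme.homOfLE_homOfLE_assoc, Scheme.homOfLE_homOfLE_assoc]
      have := congrArg (fun q => X.homOfLE (inf_le_inf_right U hVW : V ⊓ U ≤ W ⊓ U) ≫ q) hab
      simpa [Scheme.homOfLE_homOfLE_assoc] using this
    show (W.ι ⁻¹ᵁ V).ι ≫ a = (W.ι ⁻¹ᵁ V).ι ≫ b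
    have hfac : ∃ q : (W.ι ⁻¹ᵁ V).toScheme ⟶ (V : Scheme.{u}), q ≫ X.homOfLE hVW = (W.ι ⁻¹ᵁ V).ι := by
      refine ⟨IsOpenImmersion.lift V.ι ((W.ι ⁻¹ᵁ V).ι ≫ W.ι) ?_, ?_⟩
      · rintro _ ⟨w, rfl⟩
        rw [Scheme.Opens.range_ι]
        exact w.2
      · rw [← cancel_mono W.ι, Category.assoc, Scheme.homOfLE_ι, IsOpenImmersion.lift_fac]
    obtain ⟨q, hq⟩ := hfac
    rw [← hq, Category.assoc, Category.assoc, key]
  -- existence on affine opens
  have ex : ∀ V : X.affineOpens, ∃ s : (V.1 : Scheme.{u}) ⟶ Y, s ≫ f = V.1.ι ∧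
      X.homOfLE (inf_le_left : V.1 ⊓ U ≤ V.1) ≫ s = X.homOfLE (inf_le_right : V.1 ⊓ U ≤ U) ≫ t := by
    rintro ⟨V, hV⟩
    haveI := isIso_homOfLE_appTop U hZ hV
    haveI : IsAffine (f ⁻¹ᵁ V : Scheme.{u}) := hV.preimage f
    let j := X.homOfLE (inf_le_left : V ⊓ U ≤ V)
    let g' := IsOpenImmersion.lift (f ⁻¹ᵁ V).ι (X.homOfLE (inf_le_right : V ⊓ U ≤ U) ≫ t)
      (lands V _ j (by rw [Category.assoc, ht, Scheme.homOfLE_ι, Scheme.homOfLE_ι]))
    let g : (V : Scheme.{u}) ⟶ (f ⁻¹ᵁ V : Scheme.{u}) :=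
      (V : Scheme.{u}).toSpecΓ ≫ Spec.map (g'.appTop ≫ inv j.appTop) ≫ (f ⁻¹ᵁ V).toScheme.isoSpec.inv
    have hg : j ≫ g = g' := by
      show j ≫ _ ≫ _ = _
      rw [Scheme.toSpecΓ_naturality_assoc, ← Spec.map_comp_assoc, Category.assoc, IsIso.inv_hom_id,
        Category.comp_id, ← Scheme.toSpecΓ_naturality_assoc]
      simp [Scheme.isoSpec]
    refine ⟨g ≫ (f ⁻¹ᵁ V).ι, ?_, ?_⟩
    · haveI : IsAffine (V : Scheme.{u}) := hV
      rw [Category.assoc, ← morphismRestrict_ι]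
      have : g ≫ f ∣_ V = 𝟙 _ := by
        refine ext_of_isAffine ?_
        have h2 : j ≫ g ≫ f ∣_ V = j ≫ 𝟙 _ := by
          rw [← cancel_mono V.ι, ← Category.assoc j, hg, Category.assoc, morphismRestrict_ι,
            IsOpenImmersion.lift_fac_assoc, Category.assoc, ht, Category.comp_id, Scheme.homOfLE_ι,
            Scheme.homOfLE_ι]
        have := congrArg Scheme.Hom.appTop h2
        rw [Scheme.Hom.comp_appTop, Scheme.Hom.comp_appTop] at this
        exact (cancel_mono _).1 this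
      rw [← Category.assoc, this, Category.id_comp]
    · rw [← Category.assoc, hg, IsOpenImmersion.lift_fac]
  choose s hsf hst using ex
  let 𝒰 := X.openCoverOfIsOpenCover (fun V : X.affineOpens => V.1) (iSup_affineOpens_eq_top X)
  have hglue : ∀ V V' : X.affineOpens, pullback.fst V.1.ι V'.1.ι ≫ s V = pullback.snd _ _ ≫ s V' := by
    intro V V'
    let W := V.1 ⊓ V'.1
    let q : pullback V.1.ι V'.1.ι ⟶ (W : Scheme.{u}) := IsOpenImmersion.lift W.ι (pullback.fst _ _ ≫ V.1.ι) (by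
      rintro _ ⟨w, rfl⟩
      rw [Scheme.Opens.range_ι]
      refine ⟨(pullback.fst V.1.ι V'.1.ι w).2, ?_⟩
      rw [pullback.condition]
      exact (pullback.snd V.1.ι V'.1.ι w).2)
    have hq1 : q ≫ X.homOfLE (inf_le_left : W ≤ V.1) = pullback.fst _ _ := by
      rw [← cancel_mono V.1.ι, Category.assoc, Scheme.homOfLE_ι, IsOpenImmersion.lift_fac]
    have hq2 : q ≫ X.homOfLE (inf_le_right : W ≤ V'.1) = pullback.snd _ _ := by
      rw [← cancel_mono V'.1.ι, Category.assoc, Scheme.homOfLE_ι, IsOpenImmersion.lift_fac, pullback.condition]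
    rw [← hq1, ← hq2, Category.assoc, Category.assoc]
    congr 1
    refine uniq' W _ _ (by rw [Category.assoc, hsf, Scheme.homOfLE_ι])
      (by rw [Category.assoc, hsf, Scheme.homOfLE_ι]) ?_
    have h1 := congrArg (fun m => X.homOfLE (inf_le_inf_right U inf_le_left : W ⊓ U ≤ V.1 ⊓ U) ≫ m) (hst V)
    have h2 := congrArg (fun m => X.homOfLE (inf_le_inf_right U inf_le_right : W ⊓ U ≤ V'.1 ⊓ U) ≫ m) (hst V')
    simp only [Scheme.homOfLE_homOfLE_assoc] at h1 h2 ⊢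
    rw [h1, h2]
  let S : X ⟶ Y := 𝒰.glueMorphisms s hglue
  have hS : ∀ V : X.affineOpens, V.1.ι ≫ S = s V := fun V => 𝒰.ι_glueMorphisms s hglue V
  refine ⟨S, ⟨?_, ?_⟩, ?_⟩
  · refine 𝒰.hom_ext _ _ fun V => ?_
    show V.1.ι ≫ S ≫ f = V.1.ι ≫ 𝟙 X
    rw [← Category.assoc, hS, hsf, Category.comp_id]
  · have hcover : TopologicalSpace.IsOpenCover (fun V : X.affineOpens => U.ι ⁻¹ᵁ V.1) := by
      rw [TopologicalSpace.IsOpenCover, eq_top_iff]
      intro x _
      obtain ⟨V, hxV⟩ := TopologicalSpace.Opens.mem_iSup.1 ((iSup_affineOpens_eq_top X).ge (show x.1 ∈ (⊤ : X.Opens) from trivial))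
      exact TopologicalSpace.Opens.mem_iSup.2 ⟨V, hxV⟩
    refine ((U : Scheme.{u}).openCoverOfIsOpenCover _ hcover).hom_ext _ _ fun V => ?_
    show (U.ι ⁻¹ᵁ V.1).ι ≫ U.ι ≫ S = (U.ι ⁻¹ᵁ V.1).ι ≫ t
    let q : (U.ι ⁻¹ᵁ V.1).toScheme ⟶ (V.1 ⊓ U : X.Opens).toScheme :=
      IsOpenImmersion.lift (V.1 ⊓ U).ι ((U.ι ⁻¹ᵁ V.1).ι ≫ U.ι) (by
        rintro _ ⟨w, rfl⟩
        rw [Scheme.Opens.range_ι]
        exact ⟨w.2, ((U.ι ⁻¹ᵁ V.1).ι w).2⟩)
    have hq : q ≫ (V.1 ⊓ U).ι = (U.ι ⁻¹ᵁ V.1).ι ≫ U.ι := IsOpenImmersion.lift_fac _ _ _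
    have hq2 : q ≫ X.homOfLE (inf_le_right : V.1 ⊓ U ≤ U) = (U.ι ⁻¹ᵁ V.1).ι := by
      rw [← cancel_mono U.ι, Category.assoc, Scheme.homOfLE_ι, hq]
    rw [← Category.assoc, ← hq, ← X.homOfLE_ι (inf_le_left : V.1 ⊓ U ≤ V.1), Category.assoc, Category.assoc,
      hS, hst, ← Category.assoc, hq2]
  · rintro S' ⟨hS'f, hS't⟩
    refine 𝒰.hom_ext _ _ fun V => ?_
    show V.1.ι ≫ S' = V.1.ι ≫ S
    rw [hS]
    refine uniq V.1 V.2 _ _ (by rw [Category.assoc, hS'f, Category.comp_id]) (hsf V) ?_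
    rw [hst, Scheme.homOfLE_ι_assoc, ← hS't, Scheme.homOfLE_ι_assoc]

end DepthTwoExtLib
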